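import Cfsg.Agent.Lib.SplitBlocks.Hecke

/-!
Fixed vectors of `p`-groups in characteristic `p`, and fixed eigenvectors of `B`.
-/

set_option autoImplicit false
set_option linter.unusedSectionVars false
set_option linter.style.haveILetI false

namespace CfsgLib.SplitBlocks

open CfsgLib.BNPair CfsgLib.CoprimeFix

attribute [local instance] Fintype.ofFinite

variable {k V : Type*} [Field k] [AddCommGroup V] [Module k V] {p : ℕ} [Fact p.Prime] [CharP k p]

/-- A stable non-zero subspace of a representation of a `p`-group contains a non-zero fixed vector. -/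
theorem exists_fixed_mem {Q : Type*} [Group Q] [Finite Q] (hQ : IsPGroup p Q) (σ : Representation k Q V)
    (W : Submodule k V) (hW : ∀ q, ∀ w ∈ W, σ q w ∈ W) (hne : W ≠ ⊥) :
    ∃ f ∈ W, f ≠ 0 ∧ ∀ q, σ q f = f := by
  classical
  obtain ⟨w, hw, hw0⟩ := (Submodule.ne_bot_iff W).1 hne
  have hp : ∀ x : V, p • x = 0 := fun x => by
    rw [← Nat.cast_smul_eq_nsmul k, CharP.cast_eq_zero, zero_smul]
  haveI hM : Module (ZMod p) V := AddCommGroup.zmodModule hp
  let S : Submodule (ZMod p) V := Submodule.span (ZMod p) (Set.range fun q => σ q w)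
  haveI : Module.Finite (ZMod p) ↥S :=
    Module.Finite.span_of_finite (ZMod p) (Set.finite_range fun q => σ q w)
  haveI : Finite S := Module.finite_of_finite (ZMod p)
  have hmem : ∀ q, ∀ x ∈ S, σ q x ∈ S := by
    intro q x hx
    have h : S.map ((σ q).toAddMonoidHom.toZModLinearMap p) ≤ S := by
      rw [Submodule.map_span, Submodule.span_le]
      rintro _ ⟨_, ⟨q', rfl⟩, rfl⟩
      exact Submodule.subset_span ⟨q * q', by
        show σ (q * q') w = σ q (σ q' w)
        rw [map_mul, Module.End.mul_apply]⟩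
    exact h ⟨x, hx, rfl⟩
  letI : MulAction Q S :=
    { smul := fun q x => ⟨σ q x, hmem q x x.2⟩
      one_smul := fun x => Subtype.ext (by show σ 1 (x : V) = x; rw [map_one, Module.End.one_apply])
      mul_smul := fun a b x => Subtype.ext (by
        show σ (a * b) (x : V) = σ a (σ b x)
        rw [map_mul, Module.End.mul_apply]) }
  have hwS : w ∈ S := Submodule.subset_span ⟨1, by simp⟩
  haveI : Nontrivial S := ⟨⟨⟨w, hwS⟩, 0, fun h => hw0 (congrArg Subtype.val h)⟩⟩
  have hdvd : p ∣ Nat.card S := by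
    rw [Module.natCard_eq_pow_finrank (K := ZMod p), Nat.card_zmod]
    exact dvd_pow_self p Module.finrank_pos.ne'
  have h0 : (0 : S) ∈ MulAction.fixedPoints Q S := fun q => Subtype.ext (map_zero (σ q))
  obtain ⟨x, hx, hx0⟩ := hQ.exists_fixed_point_of_prime_dvd_card_of_fixed_point _ hdvd h0
  refine ⟨x, ?_, fun h => hx0 (Subtype.ext h.symm), fun q => congrArg Subtype.val (hx q)⟩
  have hSW : ∀ y ∈ S, y ∈ W := by
    intro y hy
    induction hy using Submodule.span_induction with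
    | mem z hz => obtain ⟨q, rfl⟩ := hz; exact hW q w hw
    | zero => exact W.zero_mem
    | add a b _ _ ha hb => exact W.add_mem ha hb
    | smul c a _ ha =>
      rw [← ZMod.natCast_zmod_val c, Nat.cast_smul_eq_nsmul]
      exact W.toAddSubmonoid.nsmul_mem ha _
  exact hSW x x.2

variable {G : Type*} [Group G] [Finite G] {P : Cfsg.BNPair G} {U : Subgroup G}
variable (ρ : Representation k G V) (H : SplitHyp p P U) (T : Torus p P)
include H T

/-- A `B`-eigenvector fixed by `U`. -/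
theorem exists_eigen [IsAlgClosed k] [FiniteDimensional k V] [Nontrivial V] :
    ∃ f : V, f ≠ 0 ∧ IsFix U ρ f ∧ IsEigen P ρ f := by
  classical
  let Fx : Submodule k V := ⨅ u : U, LinearMap.eqLocus (ρ (u : G)) 1
  have hFx : ∀ f, f ∈ Fx ↔ IsFix U ρ f := fun f => by
    simp [Fx, Submodule.mem_iInf, LinearMap.mem_eqLocus, IsFix, Subtype.forall]
  obtain ⟨f, -, hf0, hf⟩ := exists_fixed_mem H.pGroup (ρ.comp U.subtype) ⊤
    (fun _ _ _ => Submodule.mem_top) top_ne_bot
  -- a minimal non-zero fixed subspace stable under the torus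
  have hex : ∃ d, ∃ W : Submodule k V, W ≠ ⊥ ∧ W ≤ Fx ∧
      (∀ h ∈ P.B ⊓ P.N, ∀ x ∈ W, ρ h x ∈ W) ∧ Module.finrank k W = d := by
    refine ⟨_, Fx, (Submodule.ne_bot_iff _).2 ⟨f, (hFx f).2 fun u hu => hf ⟨u, hu⟩, hf0⟩, le_rfl,
      fun h hh x hx => (hFx _).2 fun u hu => ?_, rfl⟩
    have hu' : h⁻¹ * u * h ∈ U := by simpa using H.norm h⁻¹ (inv_mem hh.1) u hu
    rw [← rep_mul, show u * h = h * (h⁻¹ * u * h) by group, rep_mul, (hFx x).1 hx _ hu']
  obtain ⟨W, hW0, hWF, hWs, hWd⟩ := Nat.find_spec hex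
  obtain ⟨w, hw, hw0⟩ := (Submodule.ne_bot_iff W).1 hW0
  refine ⟨w, hw0, (hFx w).1 (hWF hw), fun b hb => ?_⟩
  obtain ⟨u, hu, h, hh, rfl⟩ := H.decomp b hb
  haveI : Nontrivial W := Submodule.nontrivial_iff_ne_bot.2 hW0
  obtain ⟨c, hc⟩ := Module.End.exists_eigenvalue ((ρ h).restrict (hWs h hh) : Module.End k W)
  obtain ⟨v, hv⟩ := hc.exists_hasEigenvector
  have hvc : ρ h v = c • (v : V) := congrArg Subtype.val hv.apply_eq_smul
  let W' : Submodule k V := W ⊓ LinearMap.ker (ρ h - c • 1)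
  have hmem : ∀ x, x ∈ W' ↔ x ∈ W ∧ ρ h x = c • x := fun x => by
    simp [W', LinearMap.mem_ker, sub_eq_zero]
  have hW' : W' ≠ ⊥ := (Submodule.ne_bot_iff _).2
    ⟨v, (hmem _).2 ⟨v.2, hvc⟩, fun h0 => hv.2 (Subtype.ext h0)⟩
  have hW's : ∀ a ∈ P.B ⊓ P.N, ∀ x ∈ W', ρ a x ∈ W' := fun a ha x hx => by
    obtain ⟨hx1, hx2⟩ := (hmem x).1 hx
    refine (hmem _).2 ⟨hWs a ha x hx1, ?_⟩
    rw [← rep_mul, T.comm h hh a ha, rep_mul, hx2, map_smul]
  have hle : Nat.find hex ≤ Module.finrank k W' :=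
    Nat.find_min' hex ⟨W', hW', (inf_le_left : W' ≤ W).trans hWF, hW's, rfl⟩
  have heq : W' = W := Submodule.eq_of_le_of_finrank_le inf_le_left (hWd.le.trans hle)
  refine ⟨c, ?_⟩
  have hwh : ρ h w = c • w := ((hmem w).1 (heq.symm ▸ hw)).2
  rw [rep_mul, hwh, map_smul, (hFx w).1 (hWF hw) u hu]

end CfsgLib.SplitBlocks
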