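import Cfsg.Agent.Lib.SplitBlocks.Eigen

/-!
If no Hecke operator of a generator kills the common eigenvector, then an irreducible representation is
free of rank one over `U`.
-/

set_option autoImplicit false
set_option linter.unusedSectionVars false
set_option linter.style.haveILetI false

namespace CfsgLib.SplitBlocks

open CfsgLib.BNPair CfsgLib.CoprimeFix

attribute [local instance] Fintype.ofFinite

variable {k V : Type*} [Field k] [AddCommGroup V] [Module k V] {p : ℕ} [Fact p.Prime] [CharP k p]
variable {G : Type*} [Group G] [Finite G] {P : Cfsg.BNPair G} {U : Subgroup G}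
variable (ρ : Representation k G V) (H : SplitHyp p P U) (T : Torus p P)

/-- The translation representation on functions. -/
def translation (k : Type*) [Field k] (Q : Type*) [Group Q] : Representation k Q (Q → k) where
  toFun q := LinearMap.funLeft k k fun x => q⁻¹ * x
  map_one' := LinearMap.ext fun f => funext fun x => by simp
  map_mul' a b := LinearMap.ext fun f => funext fun x => by simp [mul_assoc]

include H T

/-- The identity is a trace over `U`. -/
theorem exists_trace_one {g : V} (hg0 : g ≠ 0) (hg : IsFix U ρ g) (he : IsEigen P ρ g)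
    (c : P.S → k) (hc : ∀ s, hecke P U ρ (sN P s) g = c s • g) (hc0 : ∀ s, c s ≠ 0)
    (hirr : ∀ W : Submodule k V, (∀ x, ∀ w ∈ W, ρ x w ∈ W) → W = ⊥ ∨ W = ⊤) :
    ∃ φ : Module.End k V, ∑ u : U, ρ (u : G) * φ * ρ (u : G)⁻¹ = 1 := by
  classical
  let : Fintype U := Fintype.ofFinite U
  obtain ⟨n₀, h₀, hdesc⟩ := H.exists_long
  let v : U → V := fun u => ρ ((u : G) * n₀) g
  let Φ : (U → k) →ₗ[k] V := Fintype.linearCombination k v
  have hΦ : ∀ a, Φ a = ∑ u, a u • v u := fun a => Fintype.linearCombination_apply k v a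
  have htr : ∀ (u : U) (a : U → k), Φ (translation k U u a) = ρ (u : G) (Φ a) := by
    intro u a
    rw [hΦ, hΦ, map_sum]
    refine Fintype.sum_equiv (Equiv.mulLeft u⁻¹) _ _ fun x => ?_
    simp only [Equiv.coe_mulLeft, map_smul, v, translation, MonoidHom.coe_mk, OneHom.coe_mk,
      LinearMap.funLeft_apply, ← rep_mul]
    congr 3
    push_cast
    group
  -- the sum of the vectors is the value of the long Hecke operator
  have hbij : Function.Bijective fun u : U => (QuotientGroup.mk u : U ⧸ (stab P U n₀).subgroupOf U) :=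
    ⟨fun a b e => by
      have := Subgroup.mem_subgroupOf.1 (QuotientGroup.eq.1 e)
      rw [show stab P U n₀ = ⊥ from h₀, Subgroup.mem_bot, Subgroup.coe_mul, Subgroup.coe_inv,
        inv_mul_eq_one] at this
      exact Subtype.ext this, QuotientGroup.mk_surjective⟩
  have hsum : Φ (fun _ => 1) = hecke P U ρ n₀ g := by
    rw [hΦ, hecke]
    refine Finset.sum_bijective _ hbij (by simp) fun u _ => ?_
    rw [one_smul]
    exact term_congr ρ H T hg (out_spec (K := stab P U n₀) u)
  have hne : Φ (fun _ => 1) ≠ 0 := by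
    obtain ⟨L, hL, hw⟩ := exists_reduced P (wcl P n₀)
    obtain ⟨d, hd, e⟩ := hecke_word ρ H T hg0 hg he c hc L n₀ hw.symm (by rw [hw, hL])
    rw [hsum, e]
    exact smul_ne_zero (mul_ne_zero hd (List.prod_ne_zero fun h => by
      obtain ⟨s, -, hs⟩ := List.mem_map.1 h
      exact hc0 s hs)) hg0
  -- every translate of `g` is in the range
  have hKU : ∀ u ∈ U, ∀ y ∈ LinearMap.range Φ, ρ u y ∈ LinearMap.range Φ := by
    rintro u hu _ ⟨a, rfl⟩
    exact ⟨translation k U ⟨u, hu⟩ a, htr ⟨u, hu⟩ a⟩
  have hn₀ : ρ (n₀ : G) g ∈ LinearMap.range Φ := ⟨Pi.single 1 1, by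
    rw [hΦ, Finset.sum_eq_single (1 : U) (fun b _ hb => by simp [hb]) (by simp)]
    simp [v]⟩
  have hN : ∀ (j : ℕ) (n : P.N), len P (wcl P n₀) - len P (wcl P n) ≤ j →
      ρ (n : G) g ∈ LinearMap.range Φ := by
    intro j
    induction j using Nat.strong_induction_on with
    | _ j ih =>
      intro n hj
      by_cases hw : wcl P n = wcl P n₀
      · have hb : (n₀ : G)⁻¹ * n ∈ P.B := (wcl_eq_iff P).1 hw.symm
        obtain ⟨d, hd⟩ := he _ hb
        rw [show (n : G) = n₀ * ((n₀ : G)⁻¹ * n) by group, rep_mul, hd, map_smul]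
        exact Submodule.smul_mem _ _ hn₀
      obtain ⟨s, hs⟩ : ∃ s : P.S, len P (simp' P s * (wcl P n)⁻¹) = len P (wcl P n) + 1 := by
        by_contra! hall
        apply hw
        have h1 : AllDescents P (wcl P n)⁻¹ := fun s => by
          have := hall s
          have := len_simp_mul_cases P s (wcl P n)⁻¹
          rw [len_inv] at this ⊢
          omega
        rw [← inv_inv (wcl P n), h1.eq hdesc, hdesc.inv_eq]
      have hlen : len P (wcl P (n * sN P s)) = len P (wcl P n) + 1 := by
        rw [← hs, show wcl P (n * sN P s) = wcl P n * simp' P s from rfl, ← len_inv P (wcl P n * simp' P s),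
          mul_inv_rev, simp_inv]
      have hle : len P (wcl P (n * sN P s)) ≤ len P (wcl P n₀) := by
        have := hdesc.len_prefix (wcl P (n * sN P s))
        omega
      have hnext := ih (len P (wcl P n₀) - len P (wcl P (n * sN P s))) (by omega) (n * sN P s) le_rfl
      have hcs : c s • ρ (n : G) g ∈ LinearMap.range Φ := by
        rw [← map_smul, ← hc s, hecke, map_sum]
        refine Submodule.sum_mem _ fun q _ => ?_
        obtain ⟨a, ha, b, hb, e⟩ := exists_factor H T (n := n⁻¹) (m := sN P s) (u := (q.out : U))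
          (by rw [inv_inv, hlen, show wcl P n⁻¹ = (wcl P n)⁻¹ from rfl, len_inv, wcl_sN, len_simp])
          (Subtype.prop _)
        have hterm : ρ (((q.out : U) : G) * (sN P s : P.N)) g = ρ (a * (sN P s : P.N)) g :=
          term_congr ρ H T hg (by rw [e]; simpa using hb)
        have ha' : (n : G) * a * (n : G)⁻¹ ∈ U := by
          simpa using conj_mem_U H T ha
        rw [hterm, ← rep_mul, show (n : G) * (a * (sN P s : P.N)) =
          (n : G) * a * (n : G)⁻¹ * ((n * sN P s : P.N) : G) by push_cast; group, rep_mul]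
        exact hKU _ ha' _ hnext
      have := Submodule.smul_mem _ (c s)⁻¹ hcs
      rwa [inv_smul_smul₀ (hc0 s)] at this
  have htop : LinearMap.range Φ = ⊤ := by
    let K : Submodule k V := Submodule.span k (Set.range fun x => ρ x g)
    have hK : K ≤ LinearMap.range Φ := Submodule.span_le.2 (by
      rintro _ ⟨x, rfl⟩
      obtain ⟨w, hw⟩ := exists_cell P x
      induction w using QuotientGroup.induction_on with | H m => ?_
      obtain ⟨u, hu, b, hb, rfl⟩ := H.cell_decomp hw
      obtain ⟨d, hd⟩ := he b hb
      show ρ (u * m * b) g ∈ _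
      rw [rep_mul, hd, map_smul, rep_mul]
      exact Submodule.smul_mem _ _ (hKU u hu _ (hN _ m le_rfl)))
    rcases hirr K (fun x w hw => by
      induction hw using Submodule.span_induction with
      | mem z hz => obtain ⟨y, rfl⟩ := hz; exact Submodule.subset_span ⟨x * y, by simp⟩
      | zero => simp
      | add a b _ _ ha hb => rw [map_add]; exact K.add_mem ha hb
      | smul r a _ ha => rw [map_smul]; exact K.smul_mem r ha) with h | h
    · have : g ∈ K := Submodule.subset_span ⟨1, by simp⟩
      rw [h, Submodule.mem_bot] at this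
      exact absurd this hg0
    · exact top_le_iff.1 (h ▸ hK)
  have hinj : LinearMap.ker Φ = ⊥ := by
    by_contra hker
    obtain ⟨a, ha, ha0, hfix⟩ := exists_fixed_mem H.pGroup (translation k U) (LinearMap.ker Φ)
      (fun u a ha => by rw [LinearMap.mem_ker, htr, LinearMap.mem_ker.1 ha, map_zero]) hker
    have hconst : a = a 1 • fun _ => (1 : k) := funext fun x => by
      have := congrFun (hfix x) x
      simp [translation] at this
      simp [this]
    have h1 := LinearMap.mem_ker.1 ha
    rw [hconst, map_smul, smul_eq_zero] at h1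
    refine h1.elim (fun h => ha0 ?_) hne
    rw [hconst, h, zero_smul]
  let e : (U → k) ≃ₗ[k] V := LinearEquiv.ofBijective Φ
    ⟨LinearMap.ker_eq_bot.1 hinj, LinearMap.range_eq_top.1 htop⟩
  refine ⟨e.toLinearMap ∘ₗ LinearMap.single k (fun _ => k) (1 : U) ∘ₗ LinearMap.proj (1 : U) ∘ₗ e.symm.toLinearMap,
    LinearMap.ext fun x => ?_⟩
  obtain ⟨a, rfl⟩ := e.surjective x
  have hinv : ∀ u : U, e.symm (ρ (u : G)⁻¹ (e a)) 1 = a u := fun u => by
    have h1 : ρ (u : G)⁻¹ (e a) = e (translation k U u⁻¹ a) := by
      show ρ (u : G)⁻¹ (Φ a) = Φ _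
      rw [htr, Subgroup.coe_inv]
    rw [h1, e.symm_apply_apply]
    simp [translation]
  rw [LinearMap.sum_apply, Module.End.one_apply]
  show _ = Φ a
  rw [hΦ]
  refine Finset.sum_congr rfl fun u _ => ?_
  simp only [Module.End.mul_apply, LinearMap.comp_apply, LinearEquiv.coe_coe, LinearMap.proj_apply, hinv]
  show ρ (u : G) (Φ (Pi.single 1 (a u))) = _
  rw [hΦ, Finset.sum_eq_single (1 : U) (fun b _ hb => by simp [hb]) (by simp), Pi.single_eq_same, map_smul,
    ← rep_mul]
  simp [v]

end CfsgLib.SplitBlocks
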