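import Cfsg.Agent.Lib.SplitBlocks.Stab

/-!
Hecke operators of a split `(B, N)`-pair on the `U`-fixed vectors of a representation in characteristic
`p`, and a common eigenvector.
-/

set_option autoImplicit false
set_option linter.unusedSectionVars false
set_option linter.style.haveILetI false

namespace CfsgLib.SplitBlocks

open CfsgLib.BNPair CfsgLib.CoprimeFix

attribute [local instance] Fintype.ofFinite

variable {G : Type*} [Group G] [Finite G] {p : ℕ} {P : Cfsg.BNPair G} {U : Subgroup G}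
variable {k V : Type*} [Field k] [AddCommGroup V] [Module k V] (ρ : Representation k G V)

/-- A generator as an element of `N`. -/
abbrev sN (P : Cfsg.BNPair G) (s : P.S) : P.N := ⟨s.1, P.subset s.2⟩

theorem wcl_sN (s : P.S) : wcl P (sN P s) = simp' P s := rfl

variable (P U) in
/-- The sum over the orbit of a chamber, applied to a vector. -/
noncomputable def hecke (n : P.N) (f : V) : V :=
  ∑ q : U ⧸ (stab P U n).subgroupOf U, ρ (((q.out : U) : G) * n) f

variable (U) in
/-- Fixed by `U`. -/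
def IsFix (f : V) : Prop := ∀ u ∈ U, ρ u f = f

variable (P) in
/-- Spanning a line stable under `B`. -/
def IsEigen (f : V) : Prop := ∀ b ∈ P.B, ∃ c : k, ρ b f = c • f

theorem hecke_smul (n : P.N) (c : k) (f : V) :
    hecke P U ρ n (c • f) = c • hecke P U ρ n f := by
  simp [hecke, Finset.smul_sum]

theorem rep_mul (a b : G) (f : V) : ρ (a * b) f = ρ a (ρ b f) := by
  rw [map_mul, Module.End.mul_apply]

theorem rep_ne_zero {f : V} (hf : f ≠ 0) (a : G) : ρ a f ≠ 0 := fun h => hf (by
  have := congrArg (ρ a⁻¹) h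
  rwa [← rep_mul, inv_mul_cancel, map_one, Module.End.one_apply, map_zero] at this)

theorem out_spec {K : Subgroup G} (u : U) :
    ((QuotientGroup.mk u : U ⧸ K.subgroupOf U).out : G)⁻¹ * u ∈ K :=
  Subgroup.mem_subgroupOf.1 (QuotientGroup.eq.1 (QuotientGroup.out_eq' (QuotientGroup.mk u : U ⧸ K.subgroupOf U)))

variable (H : SplitHyp p P U) (T : Torus p P) [Fact p.Prime] {f : V}
include H T

theorem term_congr (hf : IsFix U ρ f) {n : P.N} {u u' : G} (h : u⁻¹ * u' ∈ stab P U n) :
    ρ (u' * n) f = ρ (u * n) f := by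
  rw [show u' * (n : G) = u * n * ((n : G)⁻¹ * (u⁻¹ * u') * n) by group, rep_mul,
    hf _ (conj_mem_U H T h)]

theorem hecke_one (hf : IsFix U ρ f) : hecke P U ρ 1 f = f := by
  have : Subsingleton (U ⧸ (stab P U 1).subgroupOf U) :=
    ⟨fun a b => by
      induction a using QuotientGroup.induction_on with | H a => ?_
      induction b using QuotientGroup.induction_on with | H b => ?_
      exact QuotientGroup.eq.2 (Subgroup.mem_subgroupOf.2 (by rw [stab_one H.le]; exact (a⁻¹ * b).2))⟩
  rw [hecke, Finset.sum_eq_single (QuotientGroup.mk (1 : U))]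
  · rw [OneMemClass.coe_one, mul_one]
    exact hf _ (Subtype.prop _)
  · exact fun b _ hb => absurd (Subsingleton.elim _ _) hb
  · exact fun h => absurd (Finset.mem_univ _) h

theorem hecke_isFix (hf : IsFix U ρ f) (n : P.N) : IsFix U ρ (hecke P U ρ n f) := by
  intro u hu
  rw [hecke, map_sum]
  refine Fintype.sum_equiv (MulAction.toPerm (⟨u, hu⟩ : U)) _ _ fun q => ?_
  rw [← rep_mul, ← mul_assoc]
  refine term_congr ρ H T hf ?_
  have := out_spec (K := stab P U n) (⟨u, hu⟩ * q.out : U)
  rw [show (QuotientGroup.mk (⟨u, hu⟩ * q.out : U) : U ⧸ (stab P U n).subgroupOf U) = (⟨u, hu⟩ : U) • q by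
    conv_rhs => rw [← QuotientGroup.out_eq' q]
    rfl] at this
  simpa using this

theorem hecke_torus (hf : IsFix U ρ f) (he : IsEigen P ρ f) (n : P.N) {h : G} (hh : h ∈ P.B ⊓ P.N) :
    ∃ c : k, ρ h (hecke P U ρ n f) = c • hecke P U ρ n f := by
  have hn : (n : G)⁻¹ * h * n ∈ P.B := by simpa using P.conj_mem _ (inv_mem n.2) h hh
  obtain ⟨c, hc⟩ := he _ hn
  refine ⟨c, ?_⟩
  let π : U ⧸ (stab P U n).subgroupOf U → U ⧸ (stab P U n).subgroupOf U :=
    fun q => QuotientGroup.mk (⟨h * (q.out : U) * h⁻¹, H.norm h hh.1 _ (Subtype.prop _)⟩ : U)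
  have hinj : Function.Injective π := by
    intro a b e
    have h1 := Subgroup.mem_subgroupOf.1 (QuotientGroup.eq.1 e)
    have h2 := torus_conj_mem H T (inv_mem hh) h1
    rw [← QuotientGroup.out_eq' a, ← QuotientGroup.out_eq' b]
    refine QuotientGroup.eq.2 (Subgroup.mem_subgroupOf.2 ?_)
    simpa [mul_assoc] using h2
  rw [hecke, map_sum, Finset.smul_sum]
  refine Fintype.sum_bijective π (Finite.injective_iff_bijective.1 hinj) _ _ fun q => ?_
  rw [← rep_mul, show h * (((q.out : U) : G) * n) = h * (q.out : U) * h⁻¹ * n * ((n : G)⁻¹ * h * n) by group,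
    rep_mul, hc, map_smul]
  congr 1
  exact term_congr ρ H T hf (out_spec (K := stab P U n) _)

theorem hecke_isEigen (hf : IsFix U ρ f) (he : IsEigen P ρ f) (n : P.N) :
    IsEigen P ρ (hecke P U ρ n f) := by
  intro b hb
  obtain ⟨u, hu, h, hh, rfl⟩ := H.decomp b hb
  obtain ⟨c, hc⟩ := hecke_torus ρ H T hf he n hh
  exact ⟨c, by rw [rep_mul, hc, map_smul, hecke_isFix ρ H T hf n u hu]⟩

/-- Changing the representative of a class only rescales. -/
theorem hecke_congr (hf0 : f ≠ 0) (hf : IsFix U ρ f) (he : IsEigen P ρ f) {n m : P.N}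
    (h : wcl P n = wcl P m) : ∃ c : k, c ≠ 0 ∧ hecke P U ρ m f = c • hecke P U ρ n f := by
  have hb : (n : G)⁻¹ * m ∈ P.B := (wcl_eq_iff P).1 h
  obtain ⟨c, hc⟩ := he _ hb
  refine ⟨c, fun h0 => rep_ne_zero ρ hf0 _ (by rw [hc, h0, zero_smul]), ?_⟩
  have hs := stab_congr H h
  rw [hecke, hecke, Finset.smul_sum]
  let e : U ⧸ (stab P U m).subgroupOf U → U ⧸ (stab P U n).subgroupOf U := fun q => QuotientGroup.mk q.out
  have hinj : Function.Injective e := fun a b hab => by
    rw [← QuotientGroup.out_eq' a, ← QuotientGroup.out_eq' b]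
    refine QuotientGroup.eq.2 ?_
    have := QuotientGroup.eq.1 hab
    rwa [hs] at this
  have hcard : Nat.card (U ⧸ (stab P U m).subgroupOf U) = Nat.card (U ⧸ (stab P U n).subgroupOf U) := by
    rw [hs]
  refine Fintype.sum_bijective e ((Nat.bijective_iff_injective_and_card e).2 ⟨hinj, hcard⟩) _ _ fun q => ?_
  rw [show ((q.out : U) : G) * m = (q.out : U) * n * ((n : G)⁻¹ * m) by group, rep_mul, hc, map_smul]
  congr 1
  exact term_congr ρ H T hf (out_spec (K := stab P U n) _)

/-- Reduced products of Hecke operators. -/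
theorem hecke_mul (hf : IsFix U ρ f) {n m : P.N}
    (h : len P (wcl P (n * m)) = len P (wcl P n) + len P (wcl P m)) :
    hecke P U ρ (n * m) f = hecke P U ρ n (hecke P U ρ m f) := by
  -- representatives of the inner orbit fixing the chamber of `n⁻¹`
  have hrep : ∀ b : U ⧸ (stab P U m).subgroupOf U, ∃ r : U, (r : G) ∈ stab P U n⁻¹ ∧
      (QuotientGroup.mk r : U ⧸ (stab P U m).subgroupOf U) = b := by
    intro b
    obtain ⟨a, ha, c, hc, e⟩ := exists_factor H T (n := n⁻¹) (m := m) (u := (b.out : U))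
      (by rw [inv_inv, h, show wcl P n⁻¹ = (wcl P n)⁻¹ from rfl, len_inv]) (Subtype.prop _)
    refine ⟨⟨a, stab_le ha⟩, ha, ?_⟩
    conv_rhs => rw [← QuotientGroup.out_eq' b]
    refine QuotientGroup.eq.2 (Subgroup.mem_subgroupOf.2 ?_)
    simpa [e] using hc
  choose r hr hrb using hrep
  have hconj : ∀ b, (n : G) * (r b : G) * (n : G)⁻¹ ∈ stab P U n := fun b => by
    simpa using conj_mem_stab_inv H T (hr b)
  let π : (U ⧸ (stab P U n).subgroupOf U) × (U ⧸ (stab P U m).subgroupOf U) →
      U ⧸ (stab P U (n * m)).subgroupOf U := fun x =>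
    QuotientGroup.mk (x.1.out * ⟨_, stab_le (hconj x.2)⟩ : U)
  have hπ : Function.Bijective π := by
    constructor
    · rintro ⟨a, b⟩ ⟨a', b'⟩ e
      have h1 := Subgroup.mem_subgroupOf.1 (QuotientGroup.eq.1 e)
      obtain ⟨h2, h3⟩ := stab_mul_le H T h h1
      push_cast at h2 h3
      have haa : a = a' := by
        rw [← QuotientGroup.out_eq' a, ← QuotientGroup.out_eq' a']
        refine QuotientGroup.eq.2 (Subgroup.mem_subgroupOf.2 ?_)
        have := mul_mem (mul_mem (hconj b) h2) (inv_mem (hconj b'))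
        push_cast
        convert this using 1
        group
      subst haa
      refine Prod.ext rfl ?_
      show b = b'
      rw [← hrb b, ← hrb b']
      refine QuotientGroup.eq.2 (Subgroup.mem_subgroupOf.2 ?_)
      push_cast
      convert h3 using 1
      group
    · intro c
      let a : U ⧸ (stab P U n).subgroupOf U := QuotientGroup.mk c.out
      have ha : ((a.out : U) : G)⁻¹ * (c.out : U) ∈ stab P U n := out_spec (K := stab P U n) _
      let b : U ⧸ (stab P U m).subgroupOf U := QuotientGroup.mk ⟨_, conj_mem_U H T ha⟩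
      refine ⟨(a, b), ?_⟩
      conv_rhs => rw [← QuotientGroup.out_eq' c]
      refine QuotientGroup.eq.2 (Subgroup.mem_subgroupOf.2 ?_)
      have hb : (r b : G)⁻¹ * ((n : G)⁻¹ * (((a.out : U) : G)⁻¹ * (c.out : U)) * n) ∈ stab P U m :=
        Subgroup.mem_subgroupOf.1 (QuotientGroup.eq.1 (hrb b))
      refine mem_stab_mul H T ?_ ?_
      · have := mul_mem (inv_mem (hconj b)) ha
        push_cast
        convert this using 1
        group
      · push_cast
        convert hb using 1
        group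
  symm
  calc hecke P U ρ n (hecke P U ρ m f)
      = ∑ x : (U ⧸ (stab P U n).subgroupOf U) × (U ⧸ (stab P U m).subgroupOf U),
          ρ (((x.1.out : U) : G) * n * (r x.2 : G) * m) f := by
        rw [Fintype.sum_prod_type, hecke]
        refine Finset.sum_congr rfl fun a _ => ?_
        rw [hecke, map_sum]
        refine Finset.sum_congr rfl fun b _ => ?_
        rw [mul_assoc (((a.out : U) : G) * n) (r b : G), rep_mul ρ (((a.out : U) : G) * n)]
        congr 1
        refine term_congr ρ H T hf ?_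
        have := Subgroup.mem_subgroupOf.1 (QuotientGroup.eq.1 ((hrb b).trans (QuotientGroup.out_eq' b).symm))
        simpa using this
    _ = hecke P U ρ (n * m) f := by
        refine Fintype.sum_bijective π hπ _ _ fun x => ?_
        have := term_congr ρ H T hf (n := n * m)
          (u := ((π x).out : U)) (u' := ((x.1.out : U) : G) * ((n : G) * (r x.2 : G) * (n : G)⁻¹))
          (out_spec (K := stab P U (n * m)) (x.1.out * ⟨_, stab_le (hconj x.2)⟩ : U))
        rw [← this]
        congr 2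
        push_cast
        group

theorem stab_simp_ne (s : P.S) : ∃ u ∈ U, u ∉ stab P U (sN P s) := by
  by_contra! hall
  apply H.not_normalizes s
  have h1 : ∀ u ∈ U, (s : G)⁻¹ * u * s ∈ U := fun u hu => conj_mem_U H T (n := sN P s) (hall u hu)
  have hmap : cj (s : G)⁻¹ U = U := by
    refine Subgroup.eq_of_le_of_card_ge ?_ (le_of_eq (Subgroup.card_map_of_injective (MulAut.conj _).injective).symm)
    rintro _ ⟨u, hu, rfl⟩
    simpa [mul_assoc] using h1 u hu
  have := inv_mem (cj_eq_self_iff.1 hmap)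
  rwa [inv_inv] at this

/-- The orbit of a neighbouring chamber as the orbit of a complement. -/
theorem exists_compl (s : P.S) : ∃ A : Subgroup G, A ≤ U ∧ A ⊓ stab P U (sN P s) = ⊥ ∧
    ∀ u ∈ U, ∃ a ∈ A, a⁻¹ * u ∈ stab P U (sN P s) := by
  obtain ⟨n₀, h0, hdesc⟩ := H.exists_long
  refine ⟨stab P U (sN P s * n₀), stab_le, ?_, ?_⟩
  · refine (Subgroup.eq_bot_iff_forall _).2 fun x ⟨hx, hxs⟩ => ?_
    have h1 : ((sN P s : P.N) : G)⁻¹ * x * (sN P s : P.N) ∈ stab P U n₀ :=
      mem_stab.2 ⟨conj_mem_U H T hxs, by simpa [mul_assoc] using (mem_stab.1 hx).2⟩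
    rw [show stab P U n₀ = ⊥ from h0, Subgroup.mem_bot] at h1
    have h2 := congrArg (fun y => (s : G) * y * (s : G)⁻¹) h1
    simpa [mul_assoc] using h2
  · intro u hu
    have hlt := hdesc s
    have hlen : len P (wcl P ((sN P s)⁻¹ * (sN P s * n₀))) =
        len P (wcl P (sN P s)) + len P (wcl P (sN P s * n₀)) := by
      rw [inv_mul_cancel_left, wcl_sN, len_simp,
        show wcl P (sN P s * n₀) = simp' P s * wcl P n₀ from rfl]
      have := len_simp_mul_cases P s (wcl P n₀)
      omega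
    obtain ⟨a, ha, b, hb, e⟩ := exists_factor H T hlen (inv_mem hu)
    refine ⟨b⁻¹, inv_mem hb, ?_⟩
    rw [inv_inv, show u = (a * b)⁻¹ by rw [← e, inv_inv], mul_inv_rev, mul_inv_cancel_left]
    exact inv_mem ha

omit T in
theorem hecke_eq_sum_compl' {n : P.N} {A : Subgroup G} (hA : A ≤ U) (hinf : A ⊓ stab P U n = ⊥)
    (hcov : ∀ u ∈ U, ∃ a ∈ A, a⁻¹ * u ∈ stab P U n) :
    Function.Bijective fun a : A => (QuotientGroup.mk ⟨a, hA a.2⟩ : U ⧸ (stab P U n).subgroupOf U) := by
  constructor
  · intro a b e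
    have h1 : (a : G)⁻¹ * b ∈ A ⊓ stab P U n :=
      ⟨A.mul_mem (A.inv_mem a.2) b.2, Subgroup.mem_subgroupOf.1 (QuotientGroup.eq.1 e)⟩
    rw [hinf, Subgroup.mem_bot, inv_mul_eq_one] at h1
    exact Subtype.ext h1
  · intro q
    obtain ⟨a, ha, h⟩ := hcov (q.out : U) (Subtype.prop _)
    refine ⟨⟨a, ha⟩, ?_⟩
    conv_rhs => rw [← QuotientGroup.out_eq' q]
    exact QuotientGroup.eq.2 (Subgroup.mem_subgroupOf.2 h)

theorem hecke_eq_sum_compl (hf : IsFix U ρ f) {n : P.N} {A : Subgroup G} (hA : A ≤ U)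
    (hinf : A ⊓ stab P U n = ⊥) (hcov : ∀ u ∈ U, ∃ a ∈ A, a⁻¹ * u ∈ stab P U n) :
    hecke P U ρ n f = ∑ a : A, ρ ((a : G) * n) f := by
  symm
  refine Fintype.sum_bijective _ (hecke_eq_sum_compl' H hA hinf hcov) _ _ fun a => ?_
  exact term_congr ρ H T hf (out_spec (K := stab P U n) _)

/-- The quadratic relation. -/
theorem hecke_sq [CharP k p] (hf : IsFix U ρ f) (he : IsEigen P ρ f) (s : P.S) :
    ∃ c : k, hecke P U ρ (sN P s) (hecke P U ρ (sN P s) f) = c • hecke P U ρ (sN P s) f := by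
  classical
  obtain ⟨A, hA, hinf, hcov⟩ := exists_compl H T s
  let : Fintype A := Fintype.ofFinite A
  rw [hecke_eq_sum_compl ρ H T (hecke_isFix ρ H T hf _) hA hinf hcov,
    hecke_eq_sum_compl ρ H T hf hA hinf hcov]
  have hss : ∃ c : k, ρ ((s : G) * s) f = c • f := he _ (P.sq_mem s.1 s.2)
  obtain ⟨c₀, hc₀⟩ := hss
  -- the other terms are multiples of terms of the orbit
  have hterm : ∀ b : A, b ≠ 1 → ∃ (c : k) (α : A), ρ ((s : G) * b * s) f = c • ρ ((α : G) * s) f := by
    intro b hb
    have hbs : (b : G) ∉ stab P U (sN P s) := fun h => hb (Subtype.ext (by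
      have : (b : G) ∈ A ⊓ stab P U (sN P s) := ⟨b.2, h⟩
      rwa [hinf, Subgroup.mem_bot] at this))
    have hcell : (s : G) * b * s ∈ cell P (simp' P s) := by
      rcases simp_mul_cases P s (H.le (hA b.2)) (simp_mem_cell P s) with h | h
      · rw [simp_mul_self, mem_cell_one] at h
        refine absurd (mem_stab.2 ⟨hA b.2, ?_⟩) hbs
        have := mul_mem (inv_mem (P.sq_mem s.1 s.2)) h
        show (s : G)⁻¹ * b * s ∈ P.B
        convert this using 1
        group
      · exact h
    obtain ⟨u, hu, β, hβ, e⟩ := H.cell_decomp (n := sN P s) hcell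
    obtain ⟨α, hα, hαu⟩ := hcov u hu
    obtain ⟨c, hc⟩ := he β hβ
    refine ⟨c, ⟨α, hα⟩, ?_⟩
    rw [show (s : G) * b * s = u * (sN P s : P.N) * β from e, rep_mul, hc, map_smul]
    congr 1
    exact term_congr ρ H T hf (n := sN P s) hαu
  choose c α hcα using hterm
  refine ⟨∑ b : A, if hb : b = 1 then 0 else c b hb, ?_⟩
  have hswap : ∑ a : A, ρ ((a : G) * (sN P s : P.N)) (∑ b : A, ρ ((b : G) * (sN P s : P.N)) f) =
      ∑ b : A, ∑ a : A, ρ (a : G) (ρ ((s : G) * b * s) f) := by
    rw [Finset.sum_comm]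
    refine Finset.sum_congr rfl fun a _ => ?_
    rw [map_sum]
    refine Finset.sum_congr rfl fun b _ => ?_
    rw [← rep_mul, ← rep_mul]
    congr 2
    simp [mul_assoc]
  rw [hswap, Finset.sum_smul]
  refine Finset.sum_congr rfl fun b _ => ?_
  by_cases hb : b = 1
  · rw [dif_pos hb, zero_smul, hb]
    have hconst : ∀ a : A, ρ (a : G) (ρ ((s : G) * (1 : A) * s) f) = c₀ • f := fun a => by
      rw [OneMemClass.coe_one, mul_one, hc₀, map_smul, hf _ (hA a.2)]
    rw [Finset.sum_congr rfl fun a _ => hconst a, Finset.sum_const, Finset.card_univ, ← Nat.card_eq_fintype_card,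
      ← Nat.cast_smul_eq_nsmul k]
    have hp : p ∣ Nat.card A := by
      obtain ⟨n, hn⟩ := IsPGroup.iff_card.1 (H.pGroup.to_le hA)
      rw [hn]
      refine dvd_pow_self p ?_
      rintro rfl
      rw [pow_zero, Subgroup.card_eq_one] at hn
      obtain ⟨u, hu, hus⟩ := stab_simp_ne H T s
      obtain ⟨a, ha, hau⟩ := hcov u hu
      rw [hn, Subgroup.mem_bot] at ha
      rw [ha, inv_one, one_mul] at hau
      exact hus hau
    rw [(CharP.cast_eq_zero_iff k p _).2 hp, zero_smul]
  · rw [dif_neg hb, Finset.smul_sum]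
    refine Fintype.sum_equiv (Equiv.mulRight (α b hb)) _ _ fun a => ?_
    rw [hcα b hb, map_smul, ← rep_mul, Equiv.coe_mulRight, Subgroup.coe_mul, mul_assoc]

/-- A common eigenvector of `B` and of the Hecke operators of the generators. -/
theorem exists_common [CharP k p] (hf0 : f ≠ 0) (hf : IsFix U ρ f) (he : IsEigen P ρ f) :
    ∃ g : V, g ≠ 0 ∧ IsFix U ρ g ∧ IsEigen P ρ g ∧
      ∀ s : P.S, ∃ c : k, hecke P U ρ (sN P s) g = c • g := by
  classical
  have hne : (Finset.univ.filter fun n : P.N => hecke P U ρ n f ≠ 0).Nonempty :=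
    ⟨1, by rw [Finset.mem_filter, hecke_one ρ H T hf]; exact ⟨Finset.mem_univ _, hf0⟩⟩
  obtain ⟨n, hn, hmax⟩ := Finset.exists_max_image _ (fun n => len P (wcl P n)) hne
  rw [Finset.mem_filter] at hn
  refine ⟨_, hn.2, hecke_isFix ρ H T hf n, hecke_isEigen ρ H T hf he n, fun s => ?_⟩
  rcases len_simp_mul_cases P s (wcl P n) with h | h
  · refine ⟨0, ?_⟩
    have hw : wcl P (sN P s * n) = simp' P s * wcl P n := rfl
    rw [zero_smul, ← hecke_mul ρ H T hf (by rw [hw, h, wcl_sN, len_simp]; omega)]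
    by_contra h1
    have := hmax (sN P s * n) (Finset.mem_filter.2 ⟨Finset.mem_univ _, h1⟩)
    rw [hw, h] at this
    omega
  · set n' : P.N := (sN P s)⁻¹ * n
    have hw' : wcl P n' = simp' P s * wcl P n := by
      show (simp' P s)⁻¹ * wcl P n = _
      rw [simp_inv]
    have hmul := hecke_mul ρ H T hf (n := sN P s) (m := n') (by
      rw [mul_inv_cancel_left, hw', wcl_sN, len_simp]; omega)
    rw [mul_inv_cancel_left] at hmul
    rw [hmul]
    exact hecke_sq ρ H T (hecke_isFix ρ H T hf n') (hecke_isEigen ρ H T hf he n') s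

/-- The Hecke operators along a reduced word. -/
theorem hecke_word (hf0 : f ≠ 0) (hf : IsFix U ρ f) (he : IsEigen P ρ f) (c : P.S → k)
    (hc : ∀ s, hecke P U ρ (sN P s) f = c s • f) (L : List P.S) (n : P.N) (hn : wcl P n = prodW P L)
    (hL : L.length = len P (prodW P L)) :
    ∃ d : k, d ≠ 0 ∧ hecke P U ρ n f = (d * (L.map c).prod) • f := by
  induction L generalizing n with
  | nil =>
    obtain ⟨d, hd, e⟩ := hecke_congr ρ H T hf0 hf he (n := 1) (m := n) (by rw [hn]; rfl)
    exact ⟨d, hd, by rw [e, hecke_one ρ H T hf]; simp⟩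
  | cons s L ih =>
    set n' : P.N := (sN P s)⁻¹ * n
    have hw' : wcl P n' = prodW P L := by
      show (simp' P s)⁻¹ * wcl P n = _
      rw [hn, prodW_cons, inv_mul_cancel_left]
    have hLr : L.length = len P (prodW P L) := by
      refine le_antisymm ?_ (len_le P L)
      have h1 := len_simp_mul_le P s (prodW P L)
      rw [← prodW_cons, ← hL, List.length_cons] at h1
      omega
    obtain ⟨d, hd, e⟩ := ih n' hw' hLr
    have hmul := hecke_mul ρ H T hf (n := sN P s) (m := n') (by
      rw [mul_inv_cancel_left, hn, hw', ← hL, wcl_sN, len_simp, ← hLr, List.length_cons, add_comm])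
    rw [mul_inv_cancel_left] at hmul
    refine ⟨d, hd, ?_⟩
    rw [hmul, e, hecke_smul, hc, smul_smul, List.map_cons, List.prod_cons]
    congr 1
    ring

end CfsgLib.SplitBlocks
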