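import Cfsg.Agent.Lib.BrauerPairs.Bridge
import Cfsg.Agent.Lib.BPStar.GroupRing

/-!
An irreducible representation over the residue field belonging to a block: class sums act on it by the
residues of the central character.
-/

set_option autoImplicit false
set_option linter.unusedSectionVars false
set_option linter.style.haveILetI false

namespace CfsgLib.SplitBlocks

open Cfsg MonoidAlgebra CfsgLib.BrauerPairs
open CfsgLib.Blocks (lRing)

attribute [local instance] Fintype.ofFinite

variable {p : ℕ} {M : Ideal AlgInt} [M.IsMaximal] {G : Type*} [Group G] [Finite G]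

theorem single_comm_redFun (hM : IsPModular p M) {c : G → ℂ} (hcl : ∀ g x, c (g * x * g⁻¹) = c x) (g : G) :
    single g (1 : ResK M) * redFun hM c = redFun hM c * single g 1 := by
  ext x
  rw [coeff_single_mul_apply, coeff_mul_single_apply, one_mul, mul_one]
  refine coeff_redFun_congr hM ?_
  rw [← hcl g (g⁻¹ * x)]
  congr 1
  group

theorem centralChar_eq_finsum (χ : IrrCharacter G) (a : G) [DecidablePred (IsConj a)] :
    centralChar (χ : G → ℂ) a = ∑ᶠ x : G, (if IsConj a x then (1 : ℂ) else 0) * (χ : G → ℂ) x / (χ : G → ℂ) 1 := by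
  classical
  rw [finsum_eq_sum_of_fintype, ← Finset.sum_div, centralChar]
  congr 1
  have h : ∀ x, (if IsConj a x then (1 : ℂ) else 0) * (χ : G → ℂ) x =
      if IsConj a x then (χ : G → ℂ) a else 0 := fun x => by
    split_ifs with hx
    · obtain ⟨g, rfl⟩ := isConj_iff.1 hx
      rw [one_mul, Characters.irr_isClassFunction χ a g]
    · rw [zero_mul]
  rw [Finset.sum_congr rfl fun x _ => h x, ← Finset.sum_filter, Finset.sum_const, nsmul_eq_mul]
  congr 2
  have hcard : Nat.card {y : G // IsConj a y} = (Subgroup.centralizer ({a} : Set G)).index := by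
    rw [Subgroup.index_eq_card]
    refine (Nat.card_congr (Equiv.ofBijective
      (fun q : G ⧸ Subgroup.centralizer ({a} : Set G) =>
        (⟨q.out * a * q.out⁻¹, isConj_iff.mpr ⟨q.out, rfl⟩⟩ : {y : G // IsConj a y})) ⟨?_, ?_⟩)).symm
    · intro q r e
      have e' : q.out * a * q.out⁻¹ = r.out * a * r.out⁻¹ := congrArg Subtype.val e
      rw [← QuotientGroup.out_eq' q, ← QuotientGroup.out_eq' r]
      refine QuotientGroup.eq.2 (Subgroup.mem_centralizer_singleton_iff.2 ?_)
      calc q.out⁻¹ * r.out * a = q.out⁻¹ * (r.out * a * r.out⁻¹) * r.out := by group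
        _ = a * (q.out⁻¹ * r.out) := by rw [← e']; group
    · rintro ⟨y, hy⟩
      obtain ⟨g, rfl⟩ := isConj_iff.1 hy
      refine ⟨QuotientGroup.mk g, Subtype.ext ?_⟩
      obtain ⟨⟨z, hz⟩, hg⟩ := QuotientGroup.mk_out_eq_mul (Subgroup.centralizer ({a} : Set G)) g
      have hz' := Subgroup.mem_centralizer_singleton_iff.1 hz
      show (QuotientGroup.mk g : G ⧸ _).out * a * _⁻¹ = g * a * g⁻¹
      rw [hg]
      calc g * z * a * (g * z)⁻¹ = g * (z * a) * z⁻¹ * g⁻¹ := by group
        _ = g * a * g⁻¹ := by rw [hz']; group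
  rw [← hcard, Nat.card_eq_fintype_card, Fintype.card_subtype]

theorem blockCoeff_conj' (B : Set (IrrCharacter G)) (g x : G) :
    blockCoeff B (g * x * g⁻¹) = blockCoeff B x := BrauerPairs.blockCoeff_conj B g x

/-- An irreducible representation in a block. -/
theorem exists_irreducible_in_block (hM : IsPModular p M)
    {B : Set (IrrCharacter G)} (hB : IsPBlock M B) :
    ∃ (V : Submodule (ResK M) (MonoidAlgebra (ResK M) G)) (ρ : Representation (ResK M) G V),
      FiniteDimensional (ResK M) V ∧ Nontrivial V ∧
      (∀ W : Submodule (ResK M) V, (∀ x, ∀ w ∈ W, ρ x w ∈ W) → W = ⊥ ∨ W = ⊤) ∧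
      ∀ ξ ∈ B, ∀ (a : G) [DecidablePred (IsConj a)] (v : V), ∃ l : lRing hM,
        (l : ℂ) = centralChar (ξ : G → ℂ) a ∧
        ∑ x ∈ Finset.univ.filter (fun x => IsConj a x), ρ x v = resK hM l • v := by
  classical
  set e := eG hM B with he
  have hb := isBlockIdem_eG hM hB
  haveI : FiniteDimensional (ResK M) (MonoidAlgebra (ResK M) G) :=
    Module.Finite.equiv (MonoidAlgebra.coeffLinearEquiv (ResK M)).symm
  let stable : Submodule (ResK M) (MonoidAlgebra (ResK M) G) → Prop := fun V =>
    (∀ g : G, ∀ v ∈ V, single g (1 : ResK M) * v ∈ V) ∧ ∀ v ∈ V, v * e = v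
  let V₀ : Submodule (ResK M) (MonoidAlgebra (ResK M) G) :=
    LinearMap.range (LinearMap.mulRight (ResK M) e)
  have hex : ∃ d, ∃ V, V ≠ ⊥ ∧ stable V ∧ Module.finrank (ResK M) V = d := by
    refine ⟨_, V₀, fun h => hb.ne_zero ?_, ⟨?_, ?_⟩, rfl⟩
    · have : e ∈ V₀ := ⟨1, by simp⟩
      rw [h, Submodule.mem_bot] at this
      exact this
    · rintro g _ ⟨w, rfl⟩
      exact ⟨single g 1 * w, by simp [mul_assoc]⟩
    · rintro _ ⟨w, rfl⟩
      simp [mul_assoc, he, hb.idem]
  obtain ⟨V, hV0, ⟨hVs, hVe⟩, hVd⟩ := Nat.find_spec hex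
  let L : G → Module.End (ResK M) V := fun g =>
    (LinearMap.mulLeft (ResK M) (single g (1 : ResK M))).restrict (hVs g)
  let ρ : Representation (ResK M) G V :=
    { toFun := L
      map_one' := LinearMap.ext fun v => Subtype.ext (by
        show single (1 : G) (1 : ResK M) * (v : MonoidAlgebra (ResK M) G) = v
        rw [← MonoidAlgebra.one_def, one_mul])
      map_mul' := fun g h => LinearMap.ext fun v => Subtype.ext (by
        show single (g * h) (1 : ResK M) * (v : MonoidAlgebra (ResK M) G) = single g 1 * (single h (1 : ResK M) * (v : MonoidAlgebra (ResK M) G))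
        rw [← mul_assoc, single_mul_single, one_mul]) }
  refine ⟨V, ρ, inferInstance, Submodule.nontrivial_iff_ne_bot.2 hV0, fun W hW => ?_, ?_⟩
  · by_cases hW0 : W = ⊥
    · exact Or.inl hW0
    refine Or.inr ?_
    let W' := W.map V.subtype
    have hle : W' ≤ V := Submodule.map_subtype_le V W
    have hmin : Nat.find hex ≤ Module.finrank (ResK M) W' := by
      refine Nat.find_min' hex ⟨W', ?_, ⟨?_, fun v hv => hVe v (hle hv)⟩, rfl⟩
      · intro h
        exact hW0 (Submodule.map_injective_of_injective V.injective_subtype (h.trans (Submodule.map_bot _).symm))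
      · rintro g _ ⟨w, hw, rfl⟩
        exact ⟨ρ g w, hW g w hw, rfl⟩
    have heq := Submodule.eq_of_le_of_finrank_le hle (hVd.le.trans hmin)
    exact Submodule.map_injective_of_injective V.injective_subtype (heq.trans (Submodule.map_subtype_top V).symm)
  intro ξ hξ a _ v
  let c : G → ℂ := fun x => if IsConj a x then 1 else 0
  have hc : ∀ x, c x ∈ lRing hM := fun x => by
    simp only [c]; split_ifs
    · exact Subring.one_mem _
    · exact Subring.zero_mem _
  have hcl : ∀ g x, c (g * x * g⁻¹) = c x := fun g x => by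
    have h : IsConj a (g * x * g⁻¹) ↔ IsConj a x :=
      ⟨fun h => h.trans (isConj_iff.2 ⟨g, rfl⟩).symm, fun h => h.trans (isConj_iff.2 ⟨g, rfl⟩)⟩
    simp only [c, h]
  refine ⟨⟨_, omega_sum_mem hM ξ hc hcl⟩, by rw [centralChar_eq_finsum], ?_⟩
  set l : ResK M := resK hM ⟨_, omega_sum_mem hM ξ hc hcl⟩
  set z := redFun hM c with hz
  set n : MonoidAlgebra (ResK M) G := z * e - l • e with hn
  obtain ⟨j, hj⟩ := nilpotent_sub hM hB hξ hc hcl
  have hecomm : ∀ g : G, single g (1 : ResK M) * e = e * single g 1 :=
    single_comm_redFun hM (blockCoeff_conj' B)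
  have hncomm : ∀ g : G, single g (1 : ResK M) * n = n * single g 1 := fun g => by
    have h1 : single g (1 : ResK M) * (z * e) = z * e * single g 1 := by
      rw [← mul_assoc, single_comm_redFun hM hcl, mul_assoc, hecomm, mul_assoc]
    rw [hn, mul_sub, sub_mul, h1, mul_smul_comm, hecomm, smul_mul_assoc]
  -- left multiplication by a combination of group elements
  have hspan : ∀ (a : MonoidAlgebra (ResK M) G), ∀ v ∈ V, a * v ∈ V := by
    intro a v hv
    induction a using MonoidAlgebra.induction_linear with
    | zero => simp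
    | add a b ha hb => rw [add_mul]; exact V.add_mem ha hb
    | single g r =>
      rw [show single g r = r • single g (1 : ResK M) by rw [MonoidAlgebra.smul_single', mul_one], smul_mul_assoc]
      exact V.smul_mem _ (hVs g v hv)
  have hnj : ∀ w : V, n ^ j * (w : MonoidAlgebra (ResK M) G) = 0 := fun w => by
    rw [show n ^ j = 0 from hj, zero_mul]
  have hnv : ∀ w : V, n * (w : MonoidAlgebra (ResK M) G) = 0 := by
    by_contra! hne
    obtain ⟨w, hw⟩ := hne
    let Kn : Submodule (ResK M) V :=
      LinearMap.ker ((LinearMap.mulLeft (ResK M) n).comp V.subtype)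
    have hKn : ∀ u : V, u ∈ Kn ↔ n * (u : MonoidAlgebra (ResK M) G) = 0 := fun u => by simp [Kn]
    have hinv : ∀ x, ∀ u ∈ Kn, ρ x u ∈ Kn := fun x u hu => (hKn _).2 (by
      show n * (single x 1 * (u : MonoidAlgebra (ResK M) G)) = 0
      rw [← mul_assoc, ← hncomm, mul_assoc, (hKn u).1 hu, mul_zero])
    have hWirr : Kn = ⊥ ∨ Kn = ⊤ := by
      by_cases hW0 : Kn = ⊥
      · exact Or.inl hW0
      refine Or.inr ?_
      have hmin : Nat.find hex ≤ Module.finrank (ResK M) (Kn.map V.subtype) := by
        refine Nat.find_min' hex ⟨_, ?_, ⟨?_, fun v hv => hVe v (Submodule.map_subtype_le V Kn hv)⟩, rfl⟩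
        · intro h
          exact hW0 (Submodule.map_injective_of_injective V.injective_subtype (h.trans (Submodule.map_bot _).symm))
        · rintro g _ ⟨u, hu, rfl⟩
          exact ⟨ρ g u, hinv g u hu, rfl⟩
      have heq := Submodule.eq_of_le_of_finrank_le (Submodule.map_subtype_le V Kn) (hVd.le.trans hmin)
      exact Submodule.map_injective_of_injective V.injective_subtype (heq.trans (Submodule.map_subtype_top V).symm)
    rcases hWirr with h | h
    · -- a nilpotent operator has a kernel
      have hinj : ∀ u : V, n * (u : MonoidAlgebra (ResK M) G) = 0 → u = 0 := fun u hu => by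
        have := (hKn u).2 hu
        rwa [h, Submodule.mem_bot] at this
      have hall : ∀ (i : ℕ) (u : V), n ^ i * (u : MonoidAlgebra (ResK M) G) = 0 → u = 0 := by
        intro i
        induction i with
        | zero => intro u hu; exact Subtype.ext (by simpa using hu)
        | succ i ih =>
          intro u hu
          refine hinj u ?_
          have := ih ⟨n * u, hspan n u u.2⟩ (by rwa [pow_succ, mul_assoc] at hu)
          exact congrArg Subtype.val this
      exact hw (by rw [hall j w (hnj w)]; simp)
    · exact hw ((hKn w).1 (h ▸ Submodule.mem_top))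
  have hev : e * (v : MonoidAlgebra (ResK M) G) = v := by
    have hcomm : ∀ u : MonoidAlgebra (ResK M) G, e * u = u * e := by
      intro u
      induction u using MonoidAlgebra.induction_linear with
      | zero => simp
      | add a b ha hb => rw [mul_add, add_mul, ha, hb]
      | single g r =>
        rw [show single g r = r • single g (1 : ResK M) by rw [MonoidAlgebra.smul_single', mul_one],
          mul_smul_comm, smul_mul_assoc, hecomm]
    rw [hcomm, hVe v v.2]
  have hzsum : z = ∑ x ∈ Finset.univ.filter (fun x => IsConj a x), single x (1 : ResK M) := by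
    ext y
    rw [coeff_redFun (h := hc y), MonoidAlgebra.coeff_sum, Finsupp.finsetSum_apply]
    simp only [MonoidAlgebra.coeff_single, Finsupp.single_apply]
    rw [Finset.sum_ite_eq' (Finset.univ.filter fun x => IsConj a x) y (fun _ => (1 : ResK M))]
    by_cases hy : IsConj a y
    · have : (⟨c y, hc y⟩ : lRing hM) = 1 := Subtype.ext (by show c y = 1; exact if_pos hy)
      rw [this, map_one, if_pos (Finset.mem_filter.2 ⟨Finset.mem_univ _, hy⟩)]
    · have : (⟨c y, hc y⟩ : lRing hM) = 0 := Subtype.ext (by show c y = 0; exact if_neg hy)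
      rw [this, map_zero, if_neg (fun h => hy (Finset.mem_filter.1 h).2)]
  refine Subtype.ext ?_
  rw [Submodule.coe_sum, Submodule.coe_smul]
  show ∑ x ∈ _, single x (1 : ResK M) * (v : MonoidAlgebra (ResK M) G) = l • (v : MonoidAlgebra (ResK M) G)
  rw [← Finset.sum_mul, ← hzsum]
  have := hnv v
  rw [hn, sub_mul, mul_assoc, hev, smul_mul_assoc, hev, sub_eq_zero] at this
  exact this

end CfsgLib.SplitBlocks
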