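import Cfsg.Agent.Lib.SplitBlocks.Stab

/-!
In a split `(B, N)`-pair with torus of order prime to `p` the group `U` is a Sylow `p`-subgroup.
-/

set_option autoImplicit false
set_option linter.unusedSectionVars false

namespace CfsgLib.SplitBlocks

open CfsgLib.BNPair CfsgLib.CoprimeFix

variable {G : Type*} [Group G] [Finite G] {p : ℕ} [Fact p.Prime] {P : Cfsg.BNPair G} {U : Subgroup G}

theorem not_dvd_index (H : SplitHyp p P U) (T : Torus p P) : ¬ p ∣ U.index := by
  obtain ⟨Q, hQ⟩ := H.pGroup.exists_le_sylow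
  have hUQ : U = Q := by
    by_contra hne
    have hlt : U.subgroupOf (Q : Subgroup G) < ⊤ :=
      lt_top_iff_ne_top.2 fun h => hne (le_antisymm hQ (Subgroup.subgroupOf_eq_top.1 h))
    have hnilp : Group.IsNilpotent (Q : Subgroup G) := Q.isPGroup'.isNilpotent
    obtain ⟨x, hx, hxU⟩ := SetLike.exists_of_lt (Group.normalizerCondition_of_isNilpotent _ hlt)
    have hxN : (x : G) ∈ P.B := by
      rw [← H.normalizer_eq, Subgroup.mem_normalizer_iff]
      intro u
      have hx' := Subgroup.mem_normalizer_iff.1 hx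
      refine ⟨fun hu => ?_, fun hu => ?_⟩
      · simpa [Subgroup.mem_subgroupOf] using (hx' ⟨u, hQ hu⟩).1 (Subgroup.mem_subgroupOf.2 hu)
      · have hu' : u ∈ (Q : Subgroup G) := by
          have := mul_mem (mul_mem (inv_mem x.2) (hQ hu)) x.2
          simpa [mul_assoc] using this
        simpa [Subgroup.mem_subgroupOf] using
          (hx' ⟨u, hu'⟩).2 (Subgroup.mem_subgroupOf.2 (by simpa using hu))
    obtain ⟨k, hk⟩ := Q.isPGroup' x
    have hk' : (x : G) ^ p ^ k = 1 := congrArg Subtype.val hk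
    exact hxU (Subgroup.mem_subgroupOf.2 (mem_U_of_pow H T hxN hk'))
  rw [hUQ]
  exact Q.not_dvd_index

end CfsgLib.SplitBlocks
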