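import Cfsg.Agent.Lib.SplitBlocks.Free
import Cfsg.Agent.Lib.SplitBlocks.NoFixed
import Cfsg.Agent.Lib.SplitBlocks.Module
import Cfsg.Agent.Lib.SplitBlocks.Sylow
import Cfsg.Agent.Lib.BlockCover.DefectGroup
import Cfsg.Agent.Lib.Blocks.DefectInduced
import Cfsg.Agent.Lib.HallHigman.Twisted

/-!
The blocks of a simple group with a split `(B, N)`-pair in characteristic `p` have defect zero or full
defect.
-/

set_option autoImplicit false
set_option linter.unusedSectionVars false
set_option linter.style.haveILetI false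

namespace CfsgLib.SplitBlocks

open CfsgLib.BNPair CfsgLib.CoprimeFix

attribute [local instance] Fintype.ofFinite

variable {k V : Type*} [Field k] [AddCommGroup V] [Module k V] {p : ℕ} [Fact p.Prime] [CharP k p]
variable {G : Type*} [Group G] [Finite G] {P : Cfsg.BNPair G} {U : Subgroup G}
variable (ρ : Representation k G V) (H : SplitHyp p P U) (T : Torus p P)

theorem sum_conj_eq (x : G) (v : V) [DecidablePred (IsConj x)] :
    ∑ g : G, ρ (g * x * g⁻¹) v =
      (Nat.card (Subgroup.centralizer ({x} : Set G)) : k) •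
        ∑ y ∈ Finset.univ.filter (fun y => IsConj x y), ρ y v := by
  classical
  rw [Finset.smul_sum, ← Finset.sum_fiberwise_of_maps_to (t := Finset.univ.filter fun y => IsConj x y)
    (g := fun g => g * x * g⁻¹)
    (fun g _ => Finset.mem_filter.2 ⟨Finset.mem_univ _, isConj_iff.2 ⟨g, rfl⟩⟩)]
  refine Finset.sum_congr rfl fun y hy => ?_
  obtain ⟨c, rfl⟩ := isConj_iff.1 (Finset.mem_filter.1 hy).2
  rw [Finset.sum_congr rfl (g := fun _ => ρ (c * x * c⁻¹) v)
    (fun g hg => by rw [(Finset.mem_filter.1 hg).2]), Finset.sum_const, Nat.cast_smul_eq_nsmul]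
  congr 1
  rw [Nat.card_eq_fintype_card, ← Finset.card_univ]
  refine Finset.card_bij (fun g hg => (⟨c⁻¹ * g, ?_⟩ : Subgroup.centralizer ({x} : Set G)))
    (fun g _ => Finset.mem_univ _) (fun g _ g' _ e => ?_) fun z _ => ⟨c * z, ?_, ?_⟩
  · refine Subgroup.mem_centralizer_singleton_iff.2 ?_
    have h : g * x * g⁻¹ = c * x * c⁻¹ := (Finset.mem_filter.1 hg).2
    calc c⁻¹ * g * x = c⁻¹ * (g * x * g⁻¹) * g := by group
      _ = x * (c⁻¹ * g) := by rw [h]; group
  · exact mul_left_cancel (congrArg Subtype.val e)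
  · refine Finset.mem_filter.2 ⟨Finset.mem_univ _, ?_⟩
    show c * z * x * (c * z)⁻¹ = _
    have hz := Subgroup.mem_centralizer_singleton_iff.1 z.2
    calc c * (z : G) * x * (c * z)⁻¹ = c * ((z : G) * x) * (z : G)⁻¹ * c⁻¹ := by group
      _ = c * x * c⁻¹ := by rw [hz]; group
  · exact Subtype.ext (by show c⁻¹ * (c * (z : G)) = z; group)

include H T

/-- Without a vanishing Hecke eigenvalue some class of defect zero has non-zero central character. -/
theorem exists_defect_zero_class [IsAlgClosed k] [FiniteDimensional k V] [Nontrivial V]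
    (hirr : ∀ W : Submodule k V, (∀ x, ∀ w ∈ W, ρ x w ∈ W) → W = ⊥ ∨ W = ⊤)
    {g : V} (hg0 : g ≠ 0) (hg : IsFix U ρ g) (he : IsEigen P ρ g)
    (c : P.S → k) (hc : ∀ s, hecke P U ρ (sN P s) g = c s • g) (hc0 : ∀ s, c s ≠ 0) :
    ∃ x : G, ¬ p ∣ Nat.card (Subgroup.centralizer ({x} : Set G)) ∧ ∃ _ : DecidablePred (IsConj x),
      ∃ v : V, ∑ y ∈ Finset.univ.filter (fun y => IsConj x y), ρ y v ≠ 0 := by
  classical
  let : Fintype U := Fintype.ofFinite U
  obtain ⟨φ, hφ⟩ := exists_trace_one ρ H T hg0 hg he c hc hc0 hirr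
  have hspan : φ ∈ Submodule.span k (Set.range ρ) := by
    rw [HallHigman.span_range_eq_top (fun W hW => hirr W hW)]
    exact Submodule.mem_top
  obtain ⟨a, ha⟩ := (Submodule.mem_span_range_iff_exists_fun k).1 hspan
  obtain ⟨v, hv⟩ := exists_ne (0 : V)
  by_contra hall
  push Not at hall
  have hzero : ∑ x : G, a x • ∑ h : G, ρ (h * x * h⁻¹) v = 0 := by
    refine Finset.sum_eq_zero fun x _ => ?_
    rw [sum_conj_eq]
    by_cases hp : p ∣ Nat.card (Subgroup.centralizer ({x} : Set G))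
    · rw [(CharP.cast_eq_zero_iff k p _).2 hp, zero_smul, smul_zero]
    · rw [hall x hp inferInstance v, smul_zero, smul_zero]
  -- the same sum is the index of `U` times `v`
  have hsum : ∑ x : G, a x • ∑ h : G, ρ (h * x * h⁻¹) v = ∑ h : G, (ρ h * φ * ρ h⁻¹) v := by
    simp only [Finset.smul_sum]
    rw [Finset.sum_comm]
    refine Finset.sum_congr rfl fun h _ => ?_
    simp only [← ha, Finset.mul_sum, Finset.sum_mul, LinearMap.sum_apply, mul_smul_comm, smul_mul_assoc,
      LinearMap.smul_apply, ← map_mul]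
  let π : (G ⧸ U) × U → G := fun x => x.1.out * x.2
  have hπ : Function.Bijective π := by
    refine (Nat.bijective_iff_injective_and_card π).2 ⟨?_, by rw [Nat.card_prod, ← Subgroup.index_eq_card, U.index_mul_card]⟩
    rintro ⟨q, u⟩ ⟨q', u'⟩ e
    have hq : q = q' := by
      rw [← QuotientGroup.out_eq' q, ← QuotientGroup.out_eq' q']
      refine QuotientGroup.eq.2 ?_
      have e' : q.out * (u : G) = q'.out * (u' : G) := e
      rw [show q'.out = q.out * u * (u' : G)⁻¹ by rw [e']; group]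
      simpa [mul_assoc] using mul_mem u.2 (inv_mem u'.2)
    subst hq
    exact Prod.ext rfl (Subtype.ext (mul_left_cancel (e : q.out * (u : G) = q.out * (u' : G))))
  have hidx : ∑ h : G, (ρ h * φ * ρ h⁻¹) v = (U.index : k) • v := by
    rw [← Fintype.sum_bijective π hπ (fun x => (ρ (π x) * φ * ρ (π x)⁻¹) v) _ (fun _ => rfl),
      Fintype.sum_prod_type]
    have hq : ∀ q : G ⧸ U, ∑ u : U, (ρ (π (q, u)) * φ * ρ (π (q, u))⁻¹) v = v := by
      intro q
      have h1 : ∀ u : U, (ρ (π (q, u)) * φ * ρ (π (q, u))⁻¹) v =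
          ρ q.out ((ρ (u : G) * φ * ρ (u : G)⁻¹) (ρ q.out⁻¹ v)) := fun u => by
        simp [π, map_mul, Module.End.mul_apply, mul_inv_rev]
      rw [Finset.sum_congr rfl fun u _ => h1 u, ← map_sum, ← LinearMap.sum_apply, hφ, Module.End.one_apply,
        ← rep_mul, mul_inv_cancel, map_one, Module.End.one_apply]
    rw [Finset.sum_congr rfl fun q _ => hq q, Finset.sum_const, Finset.card_univ, Subgroup.index_eq_card,
      Nat.card_eq_fintype_card, Nat.cast_smul_eq_nsmul]
  rw [hsum, hidx, smul_eq_zero, CharP.cast_eq_zero_iff k p] at hzero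
  exact hzero.elim (not_dvd_index H T) hv

/-- With a vanishing Hecke eigenvalue the sums of non-trivial regular classes kill the vector. -/
theorem classSum_eq_zero [IsSimpleGroup G] {g : V} (hg0 : g ≠ 0) (hg : IsFix U ρ g) (he : IsEigen P ρ g)
    (c : P.S → k) (hc : ∀ s, hecke P U ρ (sN P s) g = c s • g) {t : P.S} (ht : c t = 0)
    {x : G} (hx : ¬ p ∣ orderOf x) (hx1 : x ≠ 1) [DecidablePred (IsConj x)] :
    ∑ y ∈ Finset.univ.filter (fun y => IsConj x y), ρ y g = 0 := by
  classical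
  let m : G ⧸ U → ℕ := fun q => (Finset.univ.filter fun y => IsConj x y ∧ (y : G ⧸ U) = q).card
  have hterm : ∀ y : G, ρ y g = ρ ((y : G ⧸ U).out) g := fun y => by
    obtain ⟨⟨u, hu⟩, h⟩ := QuotientGroup.mk_out_eq_mul U y
    rw [h, rep_mul, hg u hu]
  have hstep1 : ∑ y ∈ Finset.univ.filter (fun y => IsConj x y), ρ y g = ∑ q : G ⧸ U, m q • ρ q.out g := by
    rw [← Finset.sum_fiberwise (Finset.univ.filter fun y => IsConj x y) (fun y => (y : G ⧸ U))]
    refine Finset.sum_congr rfl fun q _ => ?_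
    rw [Finset.filter_filter, Finset.sum_congr rfl (g := fun _ => ρ q.out g)
      (fun y hy => by rw [hterm y, (Finset.mem_filter.1 hy).2.2]), Finset.sum_const]
  have hm : ∀ (u : U) (q : G ⧸ U), m ((u : G) • q) = m q := by
    intro u q
    refine (Finset.card_bij (fun y _ => (u : G) * y * (u : G)⁻¹) (fun y hy => ?_) (fun a _ b _ e => ?_)
      fun z hz => ⟨(u : G)⁻¹ * z * u, ?_, by group⟩).symm
    · obtain ⟨h1, h2⟩ := (Finset.mem_filter.1 hy).2
      refine Finset.mem_filter.2 ⟨Finset.mem_univ _, h1.trans (isConj_iff.2 ⟨u, rfl⟩), ?_⟩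
      rw [← h2]
      exact QuotientGroup.eq.2 (by simpa [mul_assoc] using u.2)
    · simp only [mul_left_inj, mul_right_inj] at e; exact e
    · obtain ⟨h1, h2⟩ := (Finset.mem_filter.1 hz).2
      refine Finset.mem_filter.2 ⟨Finset.mem_univ _, h1.trans (isConj_iff.2 ⟨(u : G)⁻¹, by group⟩), ?_⟩
      rw [← inv_smul_smul (u : G) q, ← h2]
      exact QuotientGroup.eq.2 (by simp [mul_assoc])
  rw [hstep1, ← Finset.sum_fiberwise Finset.univ
    (fun q : G ⧸ U => (Quotient.mk (MulAction.orbitRel U (G ⧸ U)) q))]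
  refine Finset.sum_eq_zero fun ω _ => ?_
  induction ω using Quotient.inductionOn with | h q₁ => ?_
  have horb : ∀ q : G ⧸ U, Quotient.mk (MulAction.orbitRel U (G ⧸ U)) q =
      Quotient.mk (MulAction.orbitRel U (G ⧸ U)) q₁ ↔ ∃ u : U, (u : G) • q₁ = q := fun q => by
    rw [Quotient.eq]; exact MulAction.mem_orbit_iff
  rw [Finset.sum_congr rfl (g := fun q => m q₁ • ρ q.out g) (fun q hq => by
    obtain ⟨u, rfl⟩ := (horb q).1 (Finset.mem_filter.1 hq).2
    rw [hm u q₁]), ← Finset.smul_sum]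
  -- a representative in `N`
  obtain ⟨n, u₁, hu₁, hq₁⟩ : ∃ (n : P.N), ∃ u ∈ U, q₁ = ((u * n : G) : G ⧸ U) := by
    induction q₁ using QuotientGroup.induction_on with | H z => ?_
    obtain ⟨w, hw⟩ := exists_cell P z
    induction w using QuotientGroup.induction_on with | H n => ?_
    obtain ⟨u, hu, b, hb, rfl⟩ := H.cell_decomp hw
    obtain ⟨v, hv, h, hh, rfl⟩ := H.decomp b hb
    refine ⟨n * ⟨h, hh.2⟩, u * ((n : G) * 1 * (n : G)⁻¹), mul_mem hu (by simp), QuotientGroup.eq.2 ?_⟩
    have hv' : h⁻¹ * v⁻¹ * h ∈ U := by simpa using H.norm h⁻¹ (inv_mem hh.1) v⁻¹ (inv_mem hv)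
    push_cast
    convert hv' using 1
    group
  obtain ⟨L, hL, hw⟩ := exists_reduced P (wcl P n)
  by_cases htL : t ∈ L
  · -- the orbit sum is the value of a vanishing Hecke operator
    have horbit : ∑ q ∈ Finset.univ.filter (fun q => Quotient.mk (MulAction.orbitRel U (G ⧸ U)) q =
        Quotient.mk (MulAction.orbitRel U (G ⧸ U)) q₁), ρ q.out g = hecke P U ρ n g := by
      symm
      refine Finset.sum_bij (fun r _ => ((((r.out : U) : G) * n : G) : G ⧸ U)) (fun r _ => ?_)
        (fun r _ r' _ e => ?_) (fun q hq => ?_) (fun r _ => ?_)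
      · refine Finset.mem_filter.2 ⟨Finset.mem_univ _, (horb _).2 ⟨r.out * ⟨u₁, hu₁⟩⁻¹, ?_⟩⟩
        rw [hq₁]
        show (((((r.out * ⟨u₁, hu₁⟩⁻¹ : U) : G)) * (u₁ * n) : G) : G ⧸ U) = _
        push_cast
        congr 1
        group
      · rw [← QuotientGroup.out_eq' r, ← QuotientGroup.out_eq' r']
        refine QuotientGroup.eq.2 (Subgroup.mem_subgroupOf.2 (mem_stab.2 ⟨Subtype.prop _, H.le ?_⟩))
        have := QuotientGroup.eq.1 e
        push_cast
        convert this using 1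
        group
      · obtain ⟨u, rfl⟩ := (horb q).1 (Finset.mem_filter.1 hq).2
        refine ⟨QuotientGroup.mk (u * ⟨u₁, hu₁⟩), by simp, ?_⟩
        rw [hq₁]
        show _ = (((u : G) * (u₁ * n) : G) : G ⧸ U)
        refine QuotientGroup.eq.2 ?_
        have := conj_mem_U H T (out_spec (K := stab P U n) (u * ⟨u₁, hu₁⟩ : U))
        push_cast at this
        convert this using 1
        group
      · exact hterm _
    rw [horbit]
    obtain ⟨d, -, e⟩ := hecke_word ρ H T hg0 hg he c hc L n hw.symm (by rw [hw, hL])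
    rw [e, List.prod_eq_zero (List.mem_map.2 ⟨t, htL, ht⟩), mul_zero, zero_smul, smul_zero]
  -- otherwise the multiplicity vanishes
  have hp : p ∣ m q₁ := by
    by_contra hp
    rw [show q₁ = (u₁ : G) • ((n : G) : G ⧸ U) from hq₁, hm ⟨u₁, hu₁⟩] at hp
    let Y := {y : G // IsConj x y ∧ (y : G ⧸ U) = ((n : G) : G ⧸ U)}
    have hY : ∀ (a : stab P U n) (y : Y), IsConj x ((a : G) * y * (a : G)⁻¹) ∧
        (((a : G) * y * (a : G)⁻¹ : G) : G ⧸ U) = ((n : G) : G ⧸ U) := fun a y => by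
      refine ⟨y.2.1.trans (isConj_iff.2 ⟨a, rfl⟩), QuotientGroup.eq.2 ?_⟩
      have h1 : (y : G)⁻¹ * n ∈ U := QuotientGroup.eq.1 y.2.2
      have h2 : (n : G)⁻¹ * (a : G)⁻¹ * n ∈ U := by
        have := inv_mem (conj_mem_U H T a.2)
        simpa [mul_assoc] using this
      have := mul_mem (mul_mem (stab_le a.2) h1) h2
      convert this using 1
      group
    letI : MulAction (stab P U n) Y :=
      { smul := fun a y => ⟨(a : G) * y * (a : G)⁻¹, hY a y⟩
        one_smul := fun y => Subtype.ext (by show ((1 : stab P U n) : G) * y * ((1 : stab P U n) : G)⁻¹ = y; simp)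
        mul_smul := fun a b y => Subtype.ext (by
          show ((a * b : stab P U n) : G) * y * ((a * b : stab P U n) : G)⁻¹ = a * (b * y * (b : G)⁻¹) * (a : G)⁻¹
          push_cast; group) }
    have hcard : ¬ p ∣ Nat.card Y := by rwa [Nat.card_eq_fintype_card, Fintype.card_subtype]
    obtain ⟨⟨y, hyC, hyn⟩, hfix⟩ := (H.pGroup.to_le (stab_le (P := P) (n := n))).nonempty_fixed_point_of_prime_not_dvd_card Y hcard
    obtain ⟨c', rfl⟩ := isConj_iff.1 hyC
    have hy1 : c' * x * c'⁻¹ = 1 := eq_one_of_centralises H T L (by rw [hw, hL]) hw.symm htL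
      (by rwa [show c' * x * c'⁻¹ = MulAut.conj c' x from rfl, MulEquiv.orderOf_eq])
      (QuotientGroup.eq.1 hyn.symm) fun a ha => mul_inv_eq_iff_eq_mul.1 (congrArg Subtype.val (hfix ⟨a, ha⟩))
    exact hx1 (conj_eq_one_iff.1 hy1)
  obtain ⟨j, hj⟩ := hp
  rw [hj, mul_comm, mul_smul, ← Nat.cast_smul_eq_nsmul k p, CharP.cast_eq_zero, zero_smul, smul_zero]



/-- The blocks have defect zero or full defect. -/
theorem blockDefect_cases [IsSimpleGroup G] {M : Ideal Cfsg.AlgInt} (hM : Cfsg.IsPModular p M)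
    {B : Set (Cfsg.IrrCharacter G)} (hB : Cfsg.IsPBlock M B) :
    Cfsg.blockDefect p B = 0 ∨ Cfsg.blockDefect p B = (Nat.card G).factorization p := by
  classical
  haveI : M.IsMaximal := hM.2.1
  have hp2 : 2 ≤ p := (Fact.out : p.Prime).two_le
  obtain ⟨D, hD⟩ := CfsgLib.Blocks.exists_isDefectGroup hM hB
  obtain ⟨x, hreg, hunit, S, hS⟩ := CfsgLib.BlockCover.exists_regular_sylow hM hB hD
  have hcard : p ^ Cfsg.blockDefect p B =
      p ^ (Nat.card (Subgroup.centralizer ({x} : Set G))).factorization p := by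
    rw [← CfsgLib.BlockCover.natCard_defect hM hB hD, ← hS, CfsgLib.BlockCover.natCard_sylow_centralizer]
  have hd := Nat.pow_right_injective hp2 hcard
  by_cases hx1 : x = 1
  · refine Or.inr ?_
    rw [hd, hx1, show Subgroup.centralizer ({(1 : G)} : Set G) = ⊤ by
      ext; simp [Subgroup.mem_centralizer_singleton_iff], Subgroup.card_top]
  refine Or.inl ?_
  haveI : IsAlgClosed (CfsgLib.BrauerPairs.ResK M) := CfsgLib.BPStar.isAlgClosed_res hM
  haveI : CharP (CfsgLib.BrauerPairs.ResK M) p := by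
    haveI := Fintype.ofFinite G
    exact CfsgLib.BrauerPairs.charP_res hM
  obtain ⟨W, σ, hWfd, hWnt, hirr, hscal⟩ := exists_irreducible_in_block hM hB
  haveI := hWfd
  haveI := hWnt
  obtain ⟨f, hf0, hf, hfe⟩ := exists_eigen σ H T
  obtain ⟨g, hg0, hg, he, hcs⟩ := exists_common σ H T hf0 hf hfe
  choose c hc using hcs
  obtain ⟨ξ, hξ⟩ := CfsgLib.Blocks.IsPBlock.nonempty hM hB
  by_cases hzero : ∃ t, c t = 0
  · exfalso
    obtain ⟨t, ht⟩ := hzero
    obtain ⟨l, hl, hsum⟩ := hscal ξ hξ x g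
    rw [classSum_eq_zero σ H T hg0 hg he c hc ht hreg hx1, eq_comm, smul_eq_zero,
      CfsgLib.BrauerPairs.resK_eq_zero_iff] at hsum
    exact hunit ξ hξ (hl ▸ hsum.resolve_right hg0)
  push Not at hzero
  obtain ⟨y, hy, inst, v, hv⟩ := exists_defect_zero_class σ H T hirr hg0 hg he c hc hzero
  obtain ⟨l, hl, hsum⟩ := hscal ξ hξ y v
  rw [hsum, smul_ne_zero_iff] at hv
  have hu : ¬ Cfsg.MemLocalIdeal M (Cfsg.centralChar (ξ : G → ℂ) y) := fun h =>
    hv.1 ((CfsgLib.BrauerPairs.resK_eq_zero_iff hM l).2 (hl.symm ▸ h))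
  obtain ⟨S'⟩ : Nonempty (Sylow p (Subgroup.centralizer ({y} : Set G))) := inferInstance
  obtain ⟨s, hs⟩ := CfsgLib.BlockCover.defect_le_sylow hM hB hD hξ hu S'
  have h1 := Subgroup.card_le_of_le hs
  rw [Subgroup.card_map_of_injective (MulAut.conj s).injective, CfsgLib.BlockCover.natCard_sylow_centralizer,
    Nat.factorization_eq_zero_of_not_dvd hy, pow_zero, CfsgLib.BlockCover.natCard_defect hM hB hD] at h1
  exact Nat.eq_zero_of_not_pos fun h => by
    have := Nat.one_lt_pow h.ne' (Fact.out : p.Prime).one_lt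
    omega

end CfsgLib.SplitBlocks
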